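import Cfsg.Agent.Spor.HNE.D0

set_option autoImplicit false
set_option maxRecDepth 100000000
set_option Elab.async false

namespace Cfsg.Agent.Spor.HNE

theorem sq : A.sq = true := by decide +kernel
theorem gensOk : PA.gensOk A TT 2 = true := by decide +kernel
theorem okT : D.okT = true := by decide +kernel

theorem b0 : D.chkB 4 6 [⟨1, [[0], [0]]⟩, ⟨1, [[2, 1, 3, 3, 1, 3, 1, 3], [2, 0, 2, 0, 2, 2, 0, 3, 1, 1]]⟩, ⟨2, [[], []]⟩, ⟨0, [[0]]⟩, ⟨0, [[2]]⟩, ⟨2, [[3, 1, 3, 1, 3, 3, 3], [2, 2, 2, 0, 2, 0, 2, 0, 3, 1, 3, 1, 3, 3, 3], [2, 2, 2, 0, 2, 0, 2, 0, 3, 1, 3, 1, 3, 3, 3], [2, 2, 2, 0, 2, 0, 2, 0]]⟩] 0 = true := by decide +kernel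

noncomputable def p0 : List Pf := [⟨0, 0, 0, [], [4, 0]⟩, ⟨0, 0, 0, [], [0, 24]⟩, ⟨0, 0, 0, [], [4, 28]⟩, ⟨0, 0, 0, [], [4, 32]⟩, ⟨0, 0, 0, [], [0, 36]⟩, ⟨0, 0, 0, [], [4, 40]⟩, ⟨0, 0, 0, [], [4, 44]⟩, ⟨0, 0, 0, [], [4, 48]⟩, ⟨0, 0, 0, [], [4, 52]⟩, ⟨0, 0, 0, [], [0, 56]⟩, ⟨0, 0, 0, [], [4, 60]⟩, ⟨0, 0, 0, [], [0, 64]⟩, ⟨0, 0, 0, [], [4, 68]⟩, ⟨0, 0, 0, [], [0, 0]⟩, ⟨0, 0, 0, [], [4, 76]⟩, ⟨0, 0, 0, [], [0, 80]⟩, ⟨0, 0, 0, [], [4, 84]⟩, ⟨0, 0, 0, [], [4, 88]⟩, ⟨0, 0, 0, [], [0, 92]⟩, ⟨0, 0, 0, [], [4, 96]⟩, ⟨0, 0, 0, [], [0, 100]⟩, ⟨0, 0, 0, [], [4, 104]⟩, ⟨0, 0, 0, [], [0, 108]⟩, ⟨0, 0, 0, [], [4, 112]⟩, ⟨0, 0, 0, [], [0, 116]⟩, ⟨2, 30, 0, [], []⟩, ⟨0, 0,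 0, [], [124, 72]⟩, ⟨0, 0, 0, [], [128, 128]⟩, ⟨0, 0, 0, [], [0, 4]⟩, ⟨0, 0, 0, [], [4, 136]⟩, ⟨0, 0, 0, [], [0, 140]⟩, ⟨0, 0, 0, [], [4, 144]⟩, ⟨0, 0, 0, [], [0, 148]⟩, ⟨0, 0, 0, [], [4, 152]⟩, ⟨0, 0, 0, [], [4, 156]⟩, ⟨0, 0, 0, [], [4, 160]⟩, ⟨0, 0, 0, [], [4, 164]⟩, ⟨0, 0, 0, [], [4, 168]⟩, ⟨0, 0, 0, [], [0, 172]⟩, ⟨0, 0, 0, [], [4, 176]⟩, ⟨0, 0, 0, [], [0, 180]⟩, ⟨0, 0, 0, [], [128, 184, 128]⟩, ⟨0, 0, 0, [], [4, 24]⟩, ⟨0, 0, 0, [], [4, 192]⟩, ⟨0, 0, 0, [], [4, 196]⟩, ⟨0, 0, 0, [], [0, 200]⟩, ⟨0, 0, 0, [], [4, 204]⟩, ⟨0, 0, 0, [], [4, 208]⟩, ⟨0, 0, 0, [], [4, 212]⟩, ⟨0, 0, 0, [], [4, 216]⟩, ⟨0, 0, 0, [], [4, 220]⟩, ⟨0, 0, 0, [], [4, 224]⟩, ⟨2, 57, 0, [], []⟩,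 ⟨0, 0, 0, [], [232, 188]⟩, ⟨0, 0, 0, [], [236, 132]⟩, ⟨0, 0, 0, [], [236, 240]⟩, ⟨0, 0, 0, [], [4, 4]⟩, ⟨0, 0, 0, [], [4, 248]⟩, ⟨0, 0, 0, [], [4, 252]⟩, ⟨0, 0, 0, [], [0, 256]⟩, ⟨0, 0, 0, [], [4, 260]⟩, ⟨0, 0, 0, [], [4, 264]⟩, ⟨0, 0, 0, [], [0, 268]⟩, ⟨0, 0, 0, [], [4, 272]⟩, ⟨0, 0, 0, [], [0, 276]⟩, ⟨0, 0, 0, [], [4, 280]⟩, ⟨0, 0, 0, [], [4, 284]⟩, ⟨0, 0, 0, [], [4, 288]⟩, ⟨0, 0, 0, [], [292, 244]⟩, ⟨0, 0, 0, [], [4, 80]⟩, ⟨0, 0, 0, [], [4, 300]⟩, ⟨0, 0, 0, [], [4, 304]⟩, ⟨0, 0, 0, [], [4, 308]⟩, ⟨0, 0, 0, [], [0, 312]⟩, ⟨0, 0, 0, [], [4, 316]⟩, ⟨0, 0, 0, [], [4, 320]⟩, ⟨0, 0, 0, [], [0, 324]⟩, ⟨0, 0, 0, [], [4, 328]⟩, ⟨0, 0, 0, [], [0, 332]⟩, ⟨0, 0, 0, [],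 [336, 128]⟩, ⟨2, 0, 0, [], []⟩, ⟨0, 0, 0, [], [12, 12]⟩, ⟨0, 0, 0, [], [16, 348]⟩, ⟨0, 0, 0, [], [12, 352]⟩, ⟨0, 0, 0, [], [16, 356]⟩, ⟨0, 0, 0, [], [16, 360]⟩, ⟨0, 0, 0, [], [12, 364]⟩, ⟨0, 0, 0, [], [16, 368]⟩, ⟨0, 0, 0, [], [16, 372]⟩, ⟨0, 0, 0, [], [12, 376]⟩, ⟨0, 0, 0, [], [16, 380]⟩, ⟨0, 0, 0, [], [16, 384]⟩, ⟨0, 0, 0, [], [16, 388]⟩, ⟨0, 0, 0, [], [16, 392]⟩, ⟨0, 0, 0, [], [12, 396]⟩, ⟨0, 0, 0, [], [16, 400]⟩, ⟨0, 0, 0, [], [12, 404]⟩, ⟨0, 0, 0, [], [16, 408]⟩, ⟨0, 0, 0, [], [12, 412]⟩, ⟨0, 0, 0, [], [16, 416]⟩, ⟨0, 0, 0, [], [16, 364]⟩, ⟨0, 0, 0, [], [16, 424]⟩, ⟨0, 0, 0, [], [12, 428]⟩, ⟨0, 0, 0, [], [16, 432]⟩, ⟨0, 0, 0, [], [16, 436]⟩, ⟨0, 0, 0, [],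 [12, 440]⟩, ⟨0, 0, 0, [], [16, 444]⟩, ⟨0, 0, 0, [], [16, 448]⟩, ⟨0, 0, 0, [], [12, 452]⟩, ⟨2, 114, 0, [], []⟩, ⟨0, 0, 0, [], [460, 420]⟩, ⟨0, 0, 0, [], [464, 464]⟩, ⟨0, 0, 0, [], [464, 468]⟩, ⟨0, 0, 0, [], [464, 472]⟩, ⟨0, 0, 0, [], [464, 476]⟩, ⟨0, 0, 0, [], [464, 480]⟩, ⟨0, 0, 0, [], [464, 484]⟩, ⟨0, 0, 0, [], [16, 16]⟩, ⟨0, 0, 0, [], [12, 492]⟩, ⟨0, 0, 0, [], [16, 496]⟩, ⟨0, 0, 0, [], [16, 500]⟩, ⟨0, 0, 0, [], [12, 504]⟩, ⟨0, 0, 0, [], [16, 508]⟩, ⟨0, 0, 0, [], [16, 512]⟩, ⟨0, 0, 0, [], [16, 516]⟩, ⟨0, 0, 0, [], [16, 520]⟩, ⟨0, 0, 0, [], [12, 524]⟩, ⟨0, 0, 0, [], [16, 528]⟩, ⟨0, 0, 0, [], [12, 532]⟩, ⟨0, 0, 0, [], [16, 536]⟩, ⟨0, 0, 0, [], [16, 540]⟩, ⟨0,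 0, 0, [], [16, 544]⟩, ⟨0, 0, 0, [], [16, 12]⟩, ⟨0, 0, 0, [], [16, 552]⟩, ⟨0, 0, 0, [], [16, 556]⟩, ⟨0, 0, 0, [], [12, 560]⟩, ⟨0, 0, 0, [], [16, 564]⟩, ⟨0, 0, 0, [], [16, 568]⟩, ⟨0, 0, 0, [], [12, 572]⟩, ⟨0, 0, 0, [], [16, 576]⟩, ⟨0, 0, 0, [], [16, 580]⟩, ⟨0, 0, 0, [], [16, 584]⟩, ⟨0, 0, 0, [], [16, 588]⟩, ⟨0, 0, 0, [], [12, 592]⟩, ⟨0, 0, 0, [], [16, 596]⟩, ⟨0, 0, 0, [], [12, 600]⟩, ⟨0, 0, 0, [], [16, 604]⟩, ⟨0, 0, 0, [], [16, 608]⟩, ⟨0, 0, 0, [], [16, 612]⟩, ⟨0, 0, 0, [], [16, 616, 484]⟩, ⟨0, 0, 0, [], [12, 556]⟩, ⟨0, 0, 0, [], [16, 624]⟩, ⟨0, 0, 0, [], [12, 628]⟩, ⟨0, 0, 0, [], [16, 632]⟩, ⟨0, 0, 0, [], [16, 636]⟩, ⟨0, 0, 0, [], [12, 640]⟩, ⟨0, 0, 0, [], [16,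 644]⟩, ⟨0, 0, 0, [], [16, 648]⟩, ⟨0, 0, 0, [], [12, 652]⟩, ⟨0, 0, 0, [], [16, 656]⟩, ⟨0, 0, 0, [], [12, 660]⟩, ⟨0, 0, 0, [], [16, 664]⟩, ⟨0, 0, 0, [], [16, 668]⟩, ⟨0, 0, 0, [], [12, 672]⟩, ⟨2, 169, 0, [], []⟩, ⟨0, 0, 0, [], [680, 620]⟩, ⟨0, 0, 0, [], [684, 548, 472]⟩, ⟨0, 0, 0, [], [12, 16]⟩, ⟨0, 0, 0, [], [16, 692]⟩, ⟨0, 0, 0, [], [12, 696]⟩, ⟨0, 0, 0, [], [16, 700]⟩, ⟨0, 0, 0, [], [12, 704]⟩, ⟨0, 0, 0, [], [16, 708]⟩, ⟨0, 0, 0, [], [16, 712]⟩, ⟨0, 0, 0, [], [16, 716]⟩, ⟨0, 0, 0, [], [16, 720]⟩, ⟨0, 0, 0, [], [12, 724]⟩, ⟨0, 0, 0, [], [16, 728]⟩, ⟨0, 0, 0, [], [12, 732]⟩, ⟨2, 184, 0, [], []⟩, ⟨0, 0, 0, [], [740, 688]⟩, ⟨0, 0, 0, [], [744, 488]⟩, ⟨0, 0, 0, [],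 [464, 748]⟩, ⟨0, 0, 0, [], [744, 752]⟩, ⟨0, 0, 0, [], [12, 552]⟩, ⟨0, 0, 0, [], [16, 760]⟩, ⟨0, 0, 0, [], [12, 764]⟩, ⟨0, 0, 0, [], [16, 768]⟩, ⟨0, 0, 0, [], [12, 772]⟩, ⟨0, 0, 0, [], [16, 776]⟩, ⟨0, 0, 0, [], [12, 780]⟩, ⟨0, 0, 0, [], [16, 784]⟩, ⟨0, 0, 0, [], [16, 788]⟩, ⟨0, 0, 0, [], [16, 792]⟩, ⟨0, 0, 0, [], [16, 796]⟩, ⟨0, 0, 0, [], [12, 800]⟩, ⟨0, 0, 0, [], [16, 804]⟩, ⟨0, 0, 0, [], [12, 808]⟩, ⟨0, 0, 0, [], [16, 812]⟩, ⟨0, 0, 0, [], [12, 816]⟩, ⟨2, 0, 0, [], [820, 756]⟩, ⟨0, 0, 0, [], [4, 0]⟩, ⟨0, 0, 0, [], [4, 828]⟩, ⟨0, 0, 0, [], [0, 832]⟩, ⟨0, 0, 0, [], [4, 836]⟩, ⟨0, 0, 0, [], [4, 840]⟩, ⟨0, 0, 0, [], [4, 844]⟩, ⟨0, 0, 0, [], [0, 848]⟩, ⟨0, 0, 0,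 [], [4, 852]⟩, ⟨0, 0, 0, [], [4, 856]⟩, ⟨0, 0, 0, [], [4, 860]⟩, ⟨0, 0, 0, [], [0, 864]⟩, ⟨0, 0, 0, [], [4, 868]⟩, ⟨0, 0, 0, [], [4, 872]⟩, ⟨0, 0, 0, [], [4, 832]⟩, ⟨0, 0, 0, [], [4, 880]⟩, ⟨0, 0, 0, [], [4, 884]⟩, ⟨0, 0, 0, [], [4, 888]⟩, ⟨0, 0, 0, [], [4, 892]⟩, ⟨0, 0, 0, [], [0, 896]⟩, ⟨2, 225, 0, [], []⟩, ⟨0, 0, 0, [], [904, 876]⟩, ⟨0, 0, 0, [], [908, 908]⟩, ⟨0, 0, 0, [], [0, 0]⟩, ⟨0, 0, 0, [], [0, 916]⟩, ⟨0, 0, 0, [], [4, 920]⟩, ⟨0, 0, 0, [], [0, 924]⟩, ⟨0, 0, 0, [], [4, 928]⟩, ⟨0, 0, 0, [], [4, 932]⟩, ⟨0, 0, 0, [], [0, 936]⟩, ⟨0, 0, 0, [], [4, 940]⟩, ⟨0, 0, 0, [], [4, 944]⟩, ⟨0, 0, 0, [], [0, 948]⟩, ⟨0, 0, 0, [], [4, 952]⟩, ⟨0, 0, 0, [], [0, 956]⟩, ⟨0,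 0, 0, [], [4, 960]⟩, ⟨0, 0, 0, [], [908, 964, 912]⟩, ⟨0, 0, 0, [], [4, 916]⟩, ⟨0, 0, 0, [], [0, 972]⟩, ⟨0, 0, 0, [], [4, 976]⟩, ⟨0, 0, 0, [], [0, 980]⟩, ⟨0, 0, 0, [], [4, 984]⟩, ⟨0, 0, 0, [], [4, 988]⟩, ⟨0, 0, 0, [], [4, 992]⟩, ⟨0, 0, 0, [], [4, 996]⟩, ⟨0, 0, 0, [], [4, 1000]⟩, ⟨0, 0, 0, [], [4, 1004]⟩, ⟨2, 252, 0, [], []⟩, ⟨0, 0, 0, [], [908, 912]⟩, ⟨2, 254, 0, [], []⟩, ⟨0, 0, 0, [], [1020, 1012, 968]⟩, ⟨0, 0, 0, [], [4, 924]⟩, ⟨0, 0, 0, [], [4, 1028]⟩, ⟨0, 0, 0, [], [4, 1032]⟩, ⟨0, 0, 0, [], [0, 1036]⟩, ⟨0, 0, 0, [], [4, 1040]⟩, ⟨0, 0, 0, [], [0, 1044]⟩, ⟨0, 0, 0, [], [4, 1048]⟩, ⟨0, 0, 0, [], [4, 1052]⟩, ⟨0, 0, 0, [], [4, 1056]⟩, ⟨0, 0, 0, [], [4, 1060]⟩,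 ⟨0, 0, 0, [], [0, 1064]⟩, ⟨0, 0, 0, [], [128, 132]⟩, ⟨0, 0, 0, [], [236, 1072]⟩, ⟨0, 0, 0, [], [236, 1076]⟩, ⟨0, 0, 0, [], [128, 236]⟩, ⟨2, 271, 0, [], []⟩, ⟨0, 0, 0, [], [1088, 1080]⟩, ⟨0, 0, 0, [], [4, 324]⟩, ⟨1, 206, 0, [], [1096, 1084, 1092, 1069, 909, 1025, 826]⟩, ⟨0, 0, 0, [], [1024, 908]⟩, ⟨0, 0, 0, [], [908, 1104]⟩, ⟨0, 0, 0, [], [0, 828]⟩, ⟨0, 0, 0, [], [4, 1112]⟩, ⟨0, 0, 0, [], [4, 1116]⟩, ⟨0, 0, 0, [], [4, 1120]⟩, ⟨0, 0, 0, [], [4, 1124]⟩, ⟨0, 0, 0, [], [4, 1128]⟩, ⟨0, 0, 0, [], [4, 1132]⟩, ⟨0, 0, 0, [], [0, 1136]⟩, ⟨0, 0, 0, [], [4, 1140]⟩, ⟨0, 0, 0, [], [4, 1144]⟩, ⟨0, 0, 0, [], [4, 1148]⟩, ⟨0, 0, 0, [], [0, 1152]⟩, ⟨0, 0, 0, [], [0, 48]⟩, ⟨0, 0,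 0, [], [4, 1160]⟩, ⟨0, 0, 0, [], [4, 1164]⟩, ⟨0, 0, 0, [], [4, 1168]⟩, ⟨0, 0, 0, [], [4, 1172]⟩, ⟨0, 0, 0, [], [0, 1176]⟩, ⟨1, 206, 0, [], [1180, 244, 1157, 1109, 1025, 826]⟩, ⟨0, 0, 0, [], [1184, 1100]⟩, ⟨0, 0, 0, [], [1184, 1188]⟩, ⟨0, 0, 0, [], [1100, 1192]⟩, ⟨0, 0, 0, [], [1184, 1196]⟩, ⟨0, 0, 0, [], [1184, 1200]⟩, ⟨0, 0, 0, [], [1100, 1204]⟩, ⟨0, 0, 0, [], [1184, 1208]⟩, ⟨0, 0, 0, [], [1100, 1212]⟩, ⟨0, 0, 0, [], [1184, 1216]⟩, ⟨0, 0, 0, [], [1184, 1220]⟩, ⟨2, 306, 0, [], []⟩, ⟨0, 0, 0, [], [1184, 1184]⟩, ⟨0, 0, 0, [], [1100, 1232]⟩, ⟨0, 0, 0, [], [1184, 1236]⟩, ⟨0, 0, 0, [], [1184, 1240]⟩, ⟨0, 0, 0, [], [1100, 1244]⟩, ⟨0, 0, 0, [], [1184, 1248]⟩, ⟨0, 0,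 0, [], [1100, 1252]⟩, ⟨0, 0, 0, [], [1184, 1256]⟩, ⟨0, 0, 0, [], [1100, 1260]⟩, ⟨0, 0, 0, [], [1184, 1264]⟩, ⟨0, 0, 0, [], [1184, 1268]⟩, ⟨0, 0, 0, [], [1100, 1272]⟩, ⟨0, 0, 0, [], [1100, 1276]⟩, ⟨0, 0, 0, [], [4, 972]⟩, ⟨0, 0, 0, [], [4, 1284]⟩, ⟨0, 0, 0, [], [4, 1288]⟩, ⟨0, 0, 0, [], [4, 1292]⟩, ⟨0, 0, 0, [], [4, 1296]⟩, ⟨0, 0, 0, [], [4, 1300]⟩, ⟨0, 0, 0, [], [0, 1304]⟩, ⟨0, 0, 0, [], [4, 1308]⟩, ⟨0, 0, 0, [], [0, 1312]⟩, ⟨0, 0, 0, [], [4, 1316]⟩, ⟨0, 0, 0, [], [4, 1320]⟩, ⟨0, 0, 0, [], [0, 1324]⟩, ⟨0, 0, 0, [], [4, 140]⟩, ⟨0, 0, 0, [], [0, 1332]⟩, ⟨0, 0, 0, [], [4, 1336]⟩, ⟨0, 0, 0, [], [4, 1340]⟩, ⟨0, 0, 0, [], [4, 1344]⟩, ⟨0, 0, 0, [], [0, 1348]⟩, ⟨0,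 0, 0, [], [4, 1352]⟩, ⟨0, 0, 0, [], [0, 1356]⟩, ⟨0, 0, 0, [], [4, 1360]⟩, ⟨0, 0, 0, [], [0, 1364]⟩, ⟨0, 0, 0, [], [4, 1368]⟩, ⟨0, 0, 0, [], [4, 1372]⟩, ⟨1, 206, 0, [], [1376, 240, 1092, 1329, 1109, 1025, 826]⟩, ⟨0, 0, 0, [], [1380, 1280]⟩, ⟨0, 0, 0, [], [1380, 1384]⟩, ⟨0, 0, 0, [], [1184, 1388]⟩, ⟨0, 0, 0, [], [1100, 1184]⟩, ⟨0, 0, 0, [], [1184, 1396]⟩, ⟨0, 0, 0, [], [1184, 1400]⟩, ⟨0, 0, 0, [], [1100, 1404]⟩, ⟨0, 0, 0, [], [1184, 1408]⟩, ⟨0, 0, 0, [], [1100, 1412]⟩, ⟨0, 0, 0, [], [1184, 1416]⟩, ⟨0, 0, 0, [], [1184, 1420]⟩, ⟨0, 0, 0, [], [1100, 1424]⟩, ⟨0, 0, 0, [], [1184, 1428]⟩, ⟨0, 0, 0, [], [1380, 1432]⟩, ⟨0, 0, 0, [], [1380, 1436]⟩, ⟨0, 0, 0, [], [1380,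 1440]⟩, ⟨2, 361, 0, [], []⟩, ⟨0, 0, 0, [], [1448, 1392]⟩, ⟨2, 363, 0, [], []⟩, ⟨0, 0, 0, [], [744, 468]⟩, ⟨0, 0, 0, [], [744, 1460]⟩, ⟨0, 0, 0, [], [744, 1464]⟩, ⟨0, 0, 0, [], [684, 1468]⟩, ⟨0, 0, 0, [], [16, 352]⟩, ⟨0, 0, 0, [], [12, 1476]⟩, ⟨0, 0, 0, [], [16, 1480]⟩, ⟨0, 0, 0, [], [16, 1484]⟩, ⟨0, 0, 0, [], [12, 1488]⟩, ⟨0, 0, 0, [], [16, 1492]⟩, ⟨0, 0, 0, [], [12, 1496]⟩, ⟨0, 0, 0, [], [16, 1500]⟩, ⟨0, 0, 0, [], [16, 1504]⟩, ⟨0, 0, 0, [], [12, 1508]⟩, ⟨0, 0, 0, [], [16, 1512]⟩, ⟨0, 0, 0, [], [12, 1516]⟩, ⟨0, 0, 0, [], [16, 1520]⟩, ⟨0, 0, 0, [], [16, 1524]⟩, ⟨0, 0, 0, [], [12, 1528]⟩, ⟨2, 0, 0, [], [1532, 1472]⟩, ⟨0, 0, 0, [], [0, 4]⟩, ⟨0, 0, 0, [], [4, 1540]⟩,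 ⟨0, 0, 0, [], [4, 1544]⟩, ⟨0, 0, 0, [], [0, 1548]⟩, ⟨0, 0, 0, [], [4, 1552]⟩, ⟨0, 0, 0, [], [4, 1556]⟩, ⟨0, 0, 0, [], [4, 1560]⟩, ⟨0, 0, 0, [], [0, 1564]⟩, ⟨0, 0, 0, [], [4, 1568]⟩, ⟨0, 0, 0, [], [4, 1572]⟩, ⟨0, 0, 0, [], [4, 1576]⟩, ⟨0, 0, 0, [], [0, 1580]⟩, ⟨0, 0, 0, [], [1100, 1400]⟩, ⟨0, 0, 0, [], [1184, 1588]⟩, ⟨0, 0, 0, [], [1100, 1592]⟩, ⟨0, 0, 0, [], [1184, 1596]⟩, ⟨0, 0, 0, [], [1100, 1600]⟩, ⟨0, 0, 0, [], [1184, 1604]⟩, ⟨0, 5, 0, [], []⟩, ⟨0, 403, 0, [], []⟩, ⟨0, 404, 0, [], []⟩]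
theorem c0 : D.chk 406 p0 6 = true := by decide +kernel

noncomputable def p1 : List Pf := [⟨1, 2, A_one, [], [346]⟩, ⟨0, 0, 0, [], [4, 848]⟩, ⟨0, 0, 0, [], [0, 1628]⟩, ⟨0, 0, 0, [], [4, 1632]⟩, ⟨0, 0, 0, [], [4, 1636]⟩, ⟨2, 0, 0, [], [1532, 1472]⟩, ⟨1, 2, e682, [], [1646]⟩, ⟨0, 0, 0, [], [0, 880]⟩, ⟨0, 0, 0, [], [4, 1652]⟩, ⟨0, 0, 0, [], [4, 1656]⟩, ⟨0, 0, 0, [], [0, 1660]⟩, ⟨0, 0, 0, [], [4, 1664]⟩, ⟨0, 0, 0, [], [0, 1668]⟩, ⟨0, 0, 0, [], [4, 1672]⟩, ⟨0, 0, 0, [], [4, 1676]⟩, ⟨1, 403, (nat_lit 0x2041010004104040c1000808080060c2010010082080800204082010800203), [], [1681, 909, 1025, 1650, 1641, 1025, 1626, 3, 346]⟩, ⟨0, 0, 0, [], [1024, 1108]⟩, ⟨0, 0, 0, [],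 [4, 1548]⟩, ⟨0, 0, 0, [], [4, 1692]⟩, ⟨0, 0, 0, [], [4, 1696]⟩, ⟨0, 0, 0, [], [0, 1700]⟩, ⟨0, 0, 0, [], [4, 1704]⟩, ⟨0, 0, 0, [], [0, 1708]⟩, ⟨0, 0, 0, [], [4, 1712]⟩, ⟨1, 421, 0, [], [1717, 1689, 1025, 826]⟩, ⟨0, 0, 0, [], [1646, 1720]⟩, ⟨0, 0, 0, [], [1024, 912]⟩, ⟨0, 0, 0, [], [0, 884]⟩, ⟨0, 0, 0, [], [4, 1732]⟩, ⟨0, 0, 0, [], [4, 148]⟩, ⟨0, 0, 0, [], [4, 1740]⟩, ⟨0, 0, 0, [], [4, 1744]⟩, ⟨0, 0, 0, [], [4, 1748]⟩, ⟨0, 0, 0, [], [4, 1752]⟩, ⟨0, 0, 0, [], [4, 1756]⟩, ⟨0, 0, 0, [], [4, 1760]⟩, ⟨0, 0, 0, [], [4, 1764]⟩, ⟨2, 430, 0, [], []⟩, ⟨0, 0, 0, [], [1772, 1650]⟩, ⟨0, 0, 0, [], [1024, 1016]⟩, ⟨0, 0, 0, [], [4, 4]⟩, ⟨0, 0, 0, [], [4, 1784]⟩, ⟨0, 0, 0, [],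 [4, 1788]⟩, ⟨0, 0, 0, [], [4, 1792]⟩, ⟨0, 0, 0, [], [0, 1796]⟩, ⟨0, 0, 0, [], [4, 1800]⟩, ⟨0, 0, 0, [], [4, 1804]⟩, ⟨0, 0, 0, [], [4, 1808]⟩, ⟨0, 0, 0, [], [0, 1812]⟩, ⟨0, 0, 0, [], [4, 1816]⟩, ⟨0, 0, 0, [], [0, 1284]⟩, ⟨0, 0, 0, [], [4, 1824]⟩, ⟨0, 0, 0, [], [0, 1828]⟩, ⟨0, 0, 0, [], [4, 1832]⟩, ⟨0, 0, 0, [], [0, 1836]⟩, ⟨0, 0, 0, [], [4, 1840]⟩, ⟨0, 0, 0, [], [4, 1844]⟩, ⟨0, 0, 0, [], [0, 1848]⟩, ⟨0, 0, 0, [], [4, 1852]⟩, ⟨0, 0, 0, [], [4, 1856]⟩, ⟨1, 405, (nat_lit 0x10002080818008002010610082040c1820810083001018000041800008100), [], [1861, 1105, 1025, 826, 1821, 1781, 1025, 1778, 1768, 236, 1737, 1729, 1726]⟩, ⟨1, 2, (nat_lit 0xc1840808200040c0840810000020c1040000201020410404001810408002),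 [], [1866]⟩, ⟨0, 0, 0, [], [0, 1784]⟩, ⟨0, 0, 0, [], [4, 1872]⟩, ⟨0, 0, 0, [], [0, 1876]⟩, ⟨0, 0, 0, [], [4, 1880]⟩, ⟨0, 0, 0, [], [0, 1884]⟩, ⟨0, 0, 0, [], [4, 1888]⟩, ⟨0, 0, 0, [], [0, 1892]⟩, ⟨0, 0, 0, [], [4, 1896]⟩, ⟨0, 0, 0, [], [4, 1900]⟩, ⟨0, 0, 0, [], [0, 1904]⟩, ⟨1, 467, 0, [], [260, 1076, 1092, 1909, 1781, 1025, 1726]⟩, ⟨0, 0, 0, [], [1912, 1608]⟩, ⟨1, 2, e682, [], [1538]⟩, ⟨0, 0, 0, [], [4, 864]⟩, ⟨0, 0, 0, [], [0, 1924]⟩, ⟨0, 0, 0, [], [4, 980]⟩, ⟨0, 0, 0, [], [4, 1932]⟩, ⟨0, 0, 0, [], [0, 1936]⟩, ⟨0, 0, 0, [], [4, 1940]⟩, ⟨0, 0, 0, [], [4, 1944]⟩, ⟨0, 0, 0, [], [4, 1948]⟩, ⟨0, 0, 0, [], [4, 1952]⟩, ⟨0, 0, 0, [], [1100, 1240]⟩, ⟨0, 0, 0, [], [1184,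 1960]⟩, ⟨0, 0, 0, [], [1184, 1964]⟩, ⟨0, 0, 0, [], [1100, 1968]⟩, ⟨0, 0, 0, [], [1100, 1972]⟩, ⟨0, 0, 0, [], [1100, 1976]⟩, ⟨0, 0, 0, [], [1100, 1980]⟩, ⟨0, 0, 0, [], [1380, 1984]⟩, ⟨0, 0, 0, [], [1380, 1988]⟩, ⟨0, 0, 0, [], [1184, 1992]⟩, ⟨0, 0, 0, [], [1912, 1996]⟩, ⟨1, 384, 0, [], [2000, 1452, 1957, 1689, 1025, 1538]⟩, ⟨0, 0, 0, [], [0, 1544]⟩, ⟨0, 0, 0, [], [4, 2008]⟩, ⟨0, 0, 0, [], [4, 2012]⟩, ⟨0, 0, 0, [], [4, 2016]⟩, ⟨0, 0, 0, [], [0, 2020]⟩, ⟨0, 0, 0, [], [4, 2024]⟩, ⟨0, 0, 0, [], [4, 2028]⟩, ⟨0, 0, 0, [], [1100, 1248]⟩, ⟨0, 0, 0, [], [1100, 2036]⟩, ⟨0, 0, 0, [], [1100, 2040]⟩, ⟨0, 0, 0, [], [1100, 2044]⟩, ⟨0, 0, 0, [], [1380, 2048]⟩, ⟨0, 0, 0, [], [1380,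 2052]⟩, ⟨1, 384, 0, [], [2056, 2033, 1538]⟩, ⟨0, 0, 0, [], [2060, 2004]⟩, ⟨0, 0, 0, [], [2060, 2064]⟩, ⟨0, 0, 0, [], [2060, 2068]⟩, ⟨0, 0, 0, [], [4, 936]⟩, ⟨0, 0, 0, [], [1380, 1100]⟩, ⟨0, 0, 0, [], [1100, 2080]⟩, ⟨0, 0, 0, [], [1380, 2084]⟩, ⟨0, 0, 0, [], [1452, 2088, 1452]⟩, ⟨0, 0, 0, [], [1100, 1188]⟩, ⟨0, 0, 0, [], [1184, 2096]⟩, ⟨0, 0, 0, [], [1100, 2100]⟩, ⟨0, 0, 0, [], [1184, 2104]⟩, ⟨0, 0, 0, [], [1184, 2108]⟩, ⟨0, 0, 0, [], [1100, 2112]⟩, ⟨0, 0, 0, [], [1100, 2116]⟩, ⟨0, 0, 0, [], [1100, 2120]⟩, ⟨0, 0, 0, [], [1100, 2124]⟩, ⟨0, 0, 0, [], [1380, 2128]⟩, ⟨2, 533, 0, [], []⟩, ⟨0, 0, 0, [], [1456, 2136, 2092]⟩, ⟨0, 0, 0, [], [1912, 2108]⟩, ⟨1, 384, 0,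 [], [2144, 2140, 2077, 1781, 1538]⟩, ⟨0, 0, 0, [], [2148, 2072]⟩, ⟨0, 0, 0, [], [0, 1740]⟩, ⟨0, 0, 0, [], [4, 2156]⟩, ⟨0, 0, 0, [], [4, 2160]⟩, ⟨0, 0, 0, [], [4, 2164]⟩, ⟨0, 0, 0, [], [4, 2168]⟩, ⟨0, 0, 0, [], [0, 2172]⟩, ⟨0, 0, 0, [], [0, 1792]⟩, ⟨0, 0, 0, [], [4, 2180]⟩, ⟨0, 0, 0, [], [4, 2184]⟩, ⟨0, 0, 0, [], [4, 2188]⟩, ⟨0, 0, 0, [], [4, 2192]⟩, ⟨0, 0, 0, [], [4, 2196]⟩, ⟨0, 0, 0, [], [0, 2200]⟩, ⟨0, 0, 0, [], [4, 2204]⟩, ⟨0, 0, 0, [], [0, 2208]⟩, ⟨1, 404, (nat_lit 0x2081020004204080c100041018206001830808002060418000101020008180), [], [2213, 1689, 1922, 1184, 901, 1689, 1025, 1778, 2176, 132, 1881, 909, 1726]⟩, ⟨0, 0, 0, [], [4, 1660]⟩, ⟨0, 0, 0, [], [4,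 2220]⟩, ⟨0, 0, 0, [], [4, 2224]⟩, ⟨0, 0, 0, [], [0, 2228]⟩, ⟨0, 0, 0, [], [1912, 1980]⟩, ⟨1, 554, 0, [], [2236, 1452, 2233, 1538]⟩, ⟨0, 0, 0, [], [2240, 2152]⟩, ⟨0, 0, 0, [], [2004, 2244]⟩, ⟨0, 0, 0, [], [2004, 2248]⟩, ⟨0, 0, 0, [], [2004, 2060]⟩, ⟨0, 0, 0, [], [2060, 2256]⟩, ⟨0, 0, 0, [], [2148, 2260]⟩, ⟨0, 0, 0, [], [2240, 2264]⟩, ⟨2, 567, 0, [], []⟩, ⟨0, 0, 0, [], [2272, 2252]⟩, ⟨0, 0, 0, [], [2004, 2004]⟩, ⟨0, 0, 0, [], [2004, 2280]⟩, ⟨0, 0, 0, [], [2004, 2284]⟩, ⟨0, 0, 0, [], [2004, 2288]⟩, ⟨0, 0, 0, [], [2004, 2292]⟩, ⟨0, 0, 0, [], [2004, 2296]⟩, ⟨0, 0, 0, [], [2004, 2300]⟩, ⟨0, 0, 0, [], [2060, 2304]⟩, ⟨0, 0, 0, [], [2060, 2308]⟩, ⟨0, 0, 0, [], [2004,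 2312]⟩, ⟨0, 0, 0, [], [2148, 2316]⟩, ⟨0, 0, 0, [], [2240, 2320]⟩, ⟨0, 0, 0, [], [2148, 2324]⟩, ⟨0, 0, 0, [], [2060, 2328]⟩, ⟨0, 0, 0, [], [0, 1028]⟩, ⟨0, 0, 0, [], [4, 2336]⟩, ⟨0, 0, 0, [], [0, 2340]⟩, ⟨0, 0, 0, [], [4, 2344]⟩, ⟨0, 0, 0, [], [4, 2348]⟩, ⟨0, 0, 0, [], [4, 2352]⟩, ⟨0, 0, 0, [], [4, 2356]⟩, ⟨0, 0, 0, [], [4, 2360]⟩, ⟨0, 0, 0, [], [4, 2364]⟩, ⟨0, 0, 0, [], [1184, 1972]⟩, ⟨0, 0, 0, [], [1100, 2372]⟩, ⟨0, 0, 0, [], [1100, 2376]⟩, ⟨0, 0, 0, [], [1380, 2380]⟩, ⟨0, 0, 0, [], [1380, 2384]⟩, ⟨0, 0, 0, [], [1912, 2388]⟩, ⟨1, 5, (nat_lit 0x1020004101000010102040808406080820404083080c08204002040204002), [], [2392, 2369, 913, 1538, 2332, 2276, 1929, 1729,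 1922, 1916, 1585, 913, 1538]⟩, ⟨0, 0, 0, [], [0, 892]⟩, ⟨0, 0, 0, [], [4, 2400]⟩, ⟨0, 0, 0, [], [4, 2404]⟩, ⟨0, 0, 0, [], [2060, 2284]⟩, ⟨0, 0, 0, [], [2004, 2412]⟩, ⟨0, 0, 0, [], [2004, 2416]⟩, ⟨0, 0, 0, [], [2240, 2420]⟩, ⟨0, 0, 0, [], [2148, 2424]⟩, ⟨0, 0, 0, [], [2060, 2428]⟩, ⟨0, 0, 0, [], [2004, 2432, 2276]⟩, ⟨0, 0, 0, [], [2148, 2420]⟩, ⟨0, 0, 0, [], [2240, 2440]⟩, ⟨0, 0, 0, [], [2148, 2444]⟩, ⟨0, 0, 0, [], [2060, 2448]⟩, ⟨2, 613, 0, [], []⟩, ⟨0, 0, 0, [], [2456, 2436]⟩, ⟨0, 0, 0, [], [2460, 2276]⟩, ⟨0, 0, 0, [], [2060, 2300]⟩, ⟨0, 0, 0, [], [2240, 2468]⟩, ⟨0, 0, 0, [], [2060, 2472]⟩, ⟨0, 0, 0, [], [2240, 2476]⟩, ⟨0, 0, 0, [], [2060, 2480]⟩, ⟨1, 599,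 0, [], [2484, 2464, 2409, 1017, 1922]⟩, ⟨0, 0, 0, [], [2488, 1456, 1228]⟩]
theorem c1 : D.chk 624 p1 406 = true := by decide +kernel

end Cfsg.Agent.Spor.HNE
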