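import Cfsg.Agent.Spor.DE0
import Cfsg.Agent.Spor.HNm.D0

set_option autoImplicit false
set_option maxRecDepth 100000000
set_option Elab.async false
noncomputable section

namespace Cfsg.Agent.Spor.HNE

abbrev A : PA := HNm.A
abbrev A_one : Nat := HNm.A_one

def e8 : Nat := nat_lit 0x4081040408203060c203000818204102000808183080800204082010800203

def e36 : Nat := nat_lit 0x80000000000040000000000020000000000010000000000008000000000004

def e682 : Nat := nat_lit 0x4081040c10004100830600001040400204001030810184040c1810608083

abbrev TT : List Nat := HNm.TT

end Cfsg.Agent.Spor.HNE
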